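import Groth.Agent.Lib.Slope20.Basic

/-!
# Saturated elements suffice for semistability
-/

set_option autoImplicit false

universe u v

namespace GrothLib.Slope20.SlopeData

variable {α : Type u} [Lattice α] [WellFoundedGT α] {Γ : Type v} [AddCommGroup Γ] [LinearOrder Γ]
  [IsOrderedAddMonoid Γ] (D : SlopeData α Γ) {a b : α}

theorem exists_saturation {c : α} (hcb : c ≤ b) :
    ∃ S, c ≤ S ∧ S ≤ b ∧ D.R S = D.R c ∧ (S = b ∨ D.Pure S b) := by
  obtain ⟨S, ⟨hcS, hSb, hR⟩, hmax⟩ :=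
    exists_maximal (P := fun x => c ≤ x ∧ x ≤ b ∧ D.R x = D.R c) ⟨c, le_rfl, hcb, rfl⟩
  refine ⟨S, hcS, hSb, hR, Or.inr fun x hSx hxb => lt_of_le_of_ne (D.R_mono S x hSx.le) fun he => ?_⟩
  exact hSx.ne (hmax x ⟨hcS.trans hSx.le, hxb, he ▸ hR⟩ hSx.le)

theorem le_of_saturated (hab : a < b) (hp : D.Pure a b)
    (h : ∀ c, a < c → c < b → D.Pure c b → D.Le a c a b) : D.SS a b := by
  refine ⟨hab, hp, fun c hac hcb => ?_⟩
  rcases eq_or_lt_of_le hac with rfl | hac
  · exact D.le_self _ _ _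
  obtain ⟨S, hcS, hSb, hR, hS⟩ := D.exists_saturation hcb
  have hd : D.d a c ≤ D.d a S := sub_le_sub_right (D.V_mono c S hcS hR.symm) _
  have hr : D.r a S = D.r a c := by simp only [r]; omega
  have hle : D.Le a S a b := by
    rcases eq_or_lt_of_le hSb with rfl | hlt
    · exact D.le_refl' _ _
    · exact h S (hac.trans_le hcS) hlt (hS.resolve_left hlt.ne)
  show D.r a b • D.d a c ≤ D.r a c • D.d a b
  rw [← hr]
  exact (zle (D.r_nonneg hab.le) hd).trans hle

theorem st_of_saturated (hV : ∀ x y : α, x < y → D.R x = D.R y → D.V x < D.V y) (hab : a < b) (hp : D.Pure a b)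
    (h : ∀ c, a < c → c < b → D.Pure c b → D.Lt a c a b) : D.St a b := by
  refine ⟨D.le_of_saturated hab hp fun c h1 h2 h3 => le_of_lt (h c h1 h2 h3), fun c hac hcb => ?_⟩
  obtain ⟨S, hcS, hSb, hR, hS⟩ := D.exists_saturation hcb.le
  have hr : D.r a S = D.r a c := by simp only [r]; omega
  have hrab : 0 < D.r a b := Pure.r_pos D hp hab le_rfl
  show D.r a b • D.d a c < D.r a c • D.d a b
  rw [← hr]
  rcases eq_or_lt_of_le hSb with rfl | hlt
  · exact zlt hrab (sub_lt_sub_right (hV c S hcb hR.symm) _)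
  · exact lt_of_le_of_lt (zle hrab.le (sub_le_sub_right (D.V_mono c S hcS hR.symm) _))
      (h S (hac.trans_le hcS) hlt (hS.resolve_left hlt.ne))

end GrothLib.Slope20.SlopeData
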