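import Groth.Agent.Lib.Slope20.JH

/-!
# Uniqueness of Jordan-Hölder series
-/

set_option autoImplicit false

universe u v w

namespace GrothLib.Slope20.SlopeData

variable {α : Type u} [Lattice α] [IsModularLattice α] {Γ : Type v} [AddCommGroup Γ] [LinearOrder Γ]
  [IsOrderedAddMonoid Γ] (D : SlopeData α Γ) {a b x y : α}

/-- The elements of `[a,b]` having the slope of `[a,b]`. -/
def eqSet (a b : α) : Set α := {x | a ≤ x ∧ x ≤ b ∧ D.Eq' a x a b}

theorem eqSet_sup_inf (h : D.SS a b) (hx : x ∈ D.eqSet a b) (hy : y ∈ D.eqSet a b) :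
    x ⊔ y ∈ D.eqSet a b ∧ x ⊓ y ∈ D.eqSet a b := by
  obtain ⟨hax, hxb, ex⟩ := hx
  obtain ⟨hay, hyb, ey⟩ := hy
  let ρ := D.r a b
  let ν := D.d a b
  have h1 : ρ • D.d a (x ⊔ y) ≤ D.r a (x ⊔ y) • ν := h.le_of _ (hax.trans le_sup_left) (sup_le hxb hyb)
  have h2 : ρ • D.d a (x ⊓ y) ≤ D.r a (x ⊓ y) • ν := h.le_of _ (le_inf hax hay) (inf_le_left.trans hxb)
  have hr : D.r a (x ⊔ y) + D.r a (x ⊓ y) = D.r a x + D.r a y := by
    have := D.R_val x y; simp only [r]; omega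
  have hd : D.d a (x ⊔ y) + D.d a (x ⊓ y) = D.d a x + D.d a y := by
    have hv := D.V_val x y
    simp only [d]
    rw [show D.V (x ⊔ y) - D.V a + (D.V (x ⊓ y) - D.V a) = D.V (x ⊔ y) + D.V (x ⊓ y) - D.V a - D.V a by abel, hv]
    abel
  have hsum : ρ • D.d a (x ⊔ y) + ρ • D.d a (x ⊓ y) = D.r a (x ⊔ y) • ν + D.r a (x ⊓ y) • ν := by
    rw [← smul_add, hd, ← add_smul, hr, smul_add, add_smul,
      show ρ • D.d a x = D.r a x • ν from ex, show ρ • D.d a y = D.r a y • ν from ey]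
  refine ⟨⟨hax.trans le_sup_left, sup_le hxb hyb, ?_⟩, ⟨le_inf hax hay, inf_le_left.trans hxb, ?_⟩⟩
  · refine le_antisymm h1 (le_of_not_gt fun hlt => ?_)
    exact (add_lt_add_of_lt_of_le hlt h2).ne hsum
  · refine le_antisymm h2 (le_of_not_gt fun hlt => ?_)
    exact (add_lt_add_of_le_of_lt h1 hlt).ne hsum

theorem IsJH.mem_eqSet {s : LTSeries α} (hs : D.IsJH a b s) : ∀ i : Fin (s.length + 1), s i ∈ D.eqSet a b := by
  refine Fin.induction ?_ (fun i hi => ?_)
  · exact ⟨hs.head.ge, (s.monotone (Fin.le_last 0)).trans_eq hs.last,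
      by rw [show s 0 = a from hs.head]; exact D.eq'_self a b⟩
  · refine ⟨hi.1.trans (hs.st i).lt.le, (s.monotone (Fin.le_last _)).trans_eq hs.last, ?_⟩
    show D.r a b • D.d a (s i.succ) = D.r a (s i.succ) • D.d a b
    rw [D.d_add a (s i.castSucc) (s i.succ), D.r_add a (s i.castSucc) (s i.succ), smul_add, add_smul,
      show D.r a b • D.d a (s i.castSucc) = D.r a (s i.castSucc) • D.d a b from hi.2.2,
      show D.r a b • D.d (s i.castSucc) (s i.succ) = D.r (s i.castSucc) (s i.succ) • D.d a b from hs.eq i]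

/-- Jordan-Hölder series have the same factors, for any relation of intervals generated by the second
isomorphism. -/
theorem IsJH.exists_equiv (h : D.SS a b) {s t : LTSeries α} (hs : D.IsJH a b s) (ht : D.IsJH a b t)
    (Q : α × α → α × α → Prop) (hrefl : ∀ p, Q p p) (hsymm : ∀ p q, Q p q → Q q p)
    (htrans : ∀ p q r, Q p q → Q q r → Q p r) (hrel : ∀ x y, Q (x, x ⊔ y) (x ⊓ y, y)) :
    ∃ e : Fin s.length ≃ Fin t.length,
      ∀ i, Q (s i.castSucc, s i.succ) (t (e i).castSucc, t (e i).succ) := by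
  letI : Lattice (D.eqSet a b) :=
    Subtype.lattice (fun {_ _} hx hy => (D.eqSet_sup_inf h hx hy).1) (fun {_ _} hx hy => (D.eqSet_sup_inf h hx hy).2)
  haveI : IsModularLattice (D.eqSet a b) :=
    ⟨fun {x} y {z} hxz => show (x.1 ⊔ y.1) ⊓ z.1 ≤ x.1 ⊔ y.1 ⊓ z.1 from sup_inf_le_assoc_of_le y.1 hxz⟩
  have cov : ∀ {s : LTSeries α} (hs : D.IsJH a b s) (i : Fin s.length),
      (⟨s i.castSucc, IsJH.mem_eqSet D hs _⟩ : D.eqSet a b) ⋖ ⟨s i.succ, IsJH.mem_eqSet D hs _⟩ := by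
    intro s hs i
    refine ⟨(hs.st i).lt, fun c h1 h2 => ?_⟩
    have h1' : s i.castSucc < c.1 := h1
    have h2' : c.1 < s i.succ := h2
    have hlt := (hs.st i).lt_of c.1 h1' h2'
    refine hlt.ne ?_
    have hc : D.Eq' (s i.castSucc) c.1 a b := by
      have e1 : D.r a b • D.d a c.1 = D.r a c.1 • D.d a b := c.2.2.2
      have e2 : D.r a b • D.d a (s i.castSucc) = D.r a (s i.castSucc) • D.d a b :=
        (IsJH.mem_eqSet D hs _).2.2
      rw [D.d_add a (s i.castSucc) c.1, D.r_add a (s i.castSucc) c.1, smul_add, add_smul, e2] at e1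
      exact add_left_cancel e1
    exact Eq'.trans D (h.r_pos D) hc (Eq'.symm D (hs.eq i))
  let mk : ∀ {s : LTSeries α}, D.IsJH a b s → CompositionSeries (D.eqSet a b) := fun {s} hs =>
    { length := s.length, toFun := fun i => ⟨s i, IsJH.mem_eqSet D hs i⟩, step := fun i => cov hs i }
  obtain ⟨e, he⟩ := CompositionSeries.jordan_holder (mk hs) (mk ht)
    (Subtype.ext (hs.head.trans ht.head.symm)) (Subtype.ext (hs.last.trans ht.last.symm))
  exact ⟨e, fun i => JordanHolderLattice.Iso.rel (fun p q => Q (p.1.1, p.2.1) (q.1.1, q.2.1)) (hrefl _)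
    (hsymm _ _) (htrans _ _ _) (fun {x y} _ => hrel x.1 y.1) (he i)⟩

end GrothLib.Slope20.SlopeData
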