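import Groth.Agent.Lib.ARSys.Sub

/-!
# Intersections, sums and the second isomorphism theorem for subobjects
-/

set_option autoImplicit false

universe v u

open CategoryTheory CategoryTheory.Limits

noncomputable section

namespace GrothLib.Slope20

variable {C : Type u} [Category.{v} C] [Abelian C] {X : C}

open GrothLib.ARSys

theorem kernelSubobject_cokernel_π {A : C} (g : A ⟶ X) : kernelSubobject (cokernel.π g) = imageSubobject g := by
  refine le_antisymm ?_ (le_kernelSubobject _ _ ?_)
  · rw [le_iff_factors]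
    intro B y hy
    rw [kernelSubobject_factors_iff] at hy
    obtain ⟨B', π, hπ, x, hx⟩ :=
      (ShortComplex.exact_of_g_is_cokernel (ShortComplex.mk g (cokernel.π g) (cokernel.condition g))
        (cokernelIsCokernel g)).exact_up_to_refinements y hy
    exact (factors_imageSubobject_iff g y).mpr ⟨B', π, hπ, x, hx⟩
  · rw [← cancel_epi (factorThruImageSubobject g), imageSubobject_arrow_comp_assoc, cokernel.condition, comp_zero]

theorem kernelSubobject_cokernel_π_arrow (S : Subobject X) : kernelSubobject (cokernel.π S.arrow) = S := by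
  rw [kernelSubobject_cokernel_π, imageSubobject_mono, Subobject.mk_arrow]

/-- The sum as a kernel. -/
theorem sup_eq_kernelSubobject (S T : Subobject X) :
    kernelSubobject (cokernel.π S.arrow ≫ cokernel.π (T.arrow ≫ cokernel.π S.arrow)) = S ⊔ T := by
  have h : pre (cokernel.π S.arrow) (img (cokernel.π S.arrow) T) =
      kernelSubobject (cokernel.π S.arrow ≫ cokernel.π (T.arrow ≫ cokernel.π S.arrow)) := by
    rw [show img (cokernel.π S.arrow) T = kernelSubobject (cokernel.π (T.arrow ≫ cokernel.π S.arrow)) from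
      (kernelSubobject_cokernel_π _).symm]
    apply le_antisymm <;> rw [le_iff_factors] <;> intro A x hx <;>
      simp only [factors_pre_iff, kernelSubobject_factors_iff, Category.assoc] at hx ⊢ <;> exact hx
  rw [← h, pre_img, kernelSubobject_cokernel_π_arrow, sup_comm]

/-- The intersection as a kernel. -/
theorem inf_eq_mk_kernel (S T : Subobject X) :
    Subobject.mk (kernel.ι (T.arrow ≫ cokernel.π S.arrow) ≫ T.arrow) = S ⊓ T := by
  refine le_antisymm (le_inf ?_ ?_) (Subobject.le_mk_of_comm
    (kernel.lift _ (Subobject.ofLE (S ⊓ T) T inf_le_right) ?_) ?_)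
  · refine Subobject.mk_le_of_comm (Abelian.monoLift S.arrow (kernel.ι (T.arrow ≫ cokernel.π S.arrow) ≫ T.arrow) ?_) ?_
    · rw [Category.assoc, kernel.condition]
    · exact Abelian.monoLift_comp _ _ _
  · exact Subobject.mk_le_of_comm (kernel.ι _) rfl
  · rw [Subobject.ofLE_arrow_assoc, ← Subobject.ofLE_arrow (inf_le_left : S ⊓ T ≤ S), Category.assoc,
      cokernel.condition, comp_zero]
  · rw [kernel.lift_ι_assoc, Subobject.ofLE_arrow]

theorem second_iso_condition (x y : Subobject X) :
    Subobject.ofLE (x ⊓ y) y inf_le_right ≫ Subobject.ofLE y (x ⊔ y) le_sup_right ≫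
      cokernel.π (Subobject.ofLE x (x ⊔ y) le_sup_left) = 0 := by
  rw [← Category.assoc, Subobject.ofLE_comp_ofLE,
    ← Subobject.ofLE_comp_ofLE (x ⊓ y) x (x ⊔ y) inf_le_left le_sup_left, Category.assoc, cokernel.condition,
    comp_zero]

theorem mono_ofLE {S T : Subobject X} (h : S ≤ T) : Mono (Subobject.ofLE S T h) :=
  mono_of_mono_fac (Subobject.ofLE_arrow h)

theorem shortExact_second_iso (x y : Subobject X) :
    (ShortComplex.mk _ _ (second_iso_condition x y)).ShortExact := by
  haveI : Epi (Subobject.ofLE y (x ⊔ y) le_sup_right ≫ cokernel.π (Subobject.ofLE x (x ⊔ y) le_sup_left)) := by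
    rw [epi_iff_surjective_up_to_refinements]
    intro A a
    obtain ⟨A₁, π₁, hπ₁, b, hb⟩ :=
      surjective_up_to_refinements_of_epi (cokernel.π (Subobject.ofLE x (x ⊔ y) le_sup_left)) a
    obtain ⟨A₂, π₂, hπ₂, x₁, x₂, h₁, h₂, e⟩ :=
      (factors_sup_iff (b ≫ (x ⊔ y).arrow)).mp (Subobject.factors_comp_arrow b)
    refine ⟨A₂, π₂ ≫ π₁, epi_comp _ _, y.factorThru x₂ h₂, ?_⟩
    have hd : π₂ ≫ b = x.factorThru x₁ h₁ ≫ Subobject.ofLE x (x ⊔ y) le_sup_left +
        y.factorThru x₂ h₂ ≫ Subobject.ofLE y (x ⊔ y) le_sup_right := by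
      rw [← cancel_mono (x ⊔ y).arrow, Category.assoc, e, Preadditive.add_comp, Category.assoc, Category.assoc,
        Subobject.ofLE_arrow, Subobject.ofLE_arrow, Subobject.factorThru_arrow, Subobject.factorThru_arrow]
    rw [Category.assoc, hb, ← Category.assoc, hd, Preadditive.add_comp, Category.assoc, cokernel.condition,
      comp_zero, zero_add, Category.assoc]
  refine ShortComplex.ShortExact.mk' (ShortComplex.exact_of_f_is_kernel _
    (@KernelFork.IsLimit.ofι' _ _ _ _ _ _ _ _ _ (fun {A} k hk => ?_) (mono_ofLE inf_le_right)))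
    (mono_ofLE inf_le_right) ‹_›
  haveI : Mono (Subobject.ofLE x (x ⊔ y) le_sup_left) := mono_ofLE _
  have hk' : (k ≫ Subobject.ofLE y (x ⊔ y) le_sup_right) ≫ cokernel.π (Subobject.ofLE x (x ⊔ y) le_sup_left) = 0 :=
    (Category.assoc _ _ _).trans hk
  have hx : x.Factors (k ≫ y.arrow) := (Subobject.factors_iff _ _).mpr
    ⟨Abelian.monoLift (Subobject.ofLE x (x ⊔ y) le_sup_left) _ hk', by
    show Abelian.monoLift (Subobject.ofLE x (x ⊔ y) le_sup_left) _ hk' ≫ x.arrow = k ≫ y.arrow
    rw [← Subobject.ofLE_arrow (le_sup_left : x ≤ x ⊔ y), ← Category.assoc, Abelian.monoLift_comp, Category.assoc,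
      Subobject.ofLE_arrow]⟩
  have hk2 : (x ⊓ y).Factors (k ≫ y.arrow) := (factors_inf_iff _).mpr ⟨hx, Subobject.factors_comp_arrow k⟩
  exact ⟨(x ⊓ y).factorThru _ hk2, by
    rw [← cancel_mono y.arrow, Category.assoc, Subobject.ofLE_arrow, Subobject.factorThru_arrow]⟩

/-- The second isomorphism theorem. -/
theorem nonempty_second_iso (x y : Subobject X) :
    Nonempty (cokernel (Subobject.ofLE x (x ⊔ y) le_sup_left) ≅
      cokernel (Subobject.ofLE (x ⊓ y) y inf_le_right)) :=
  ⟨(shortExact_second_iso x y).gIsCokernel.coconePointUniqueUpToIso (colimit.isColimit _)⟩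

end GrothLib.Slope20
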