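import Groth.Agent.Lib.Slope20.Filtration

/-!
# The minimal quotient of a Harder-Narasimhan series is rigid
-/

set_option autoImplicit false

universe u v

namespace GrothLib.Slope20.SlopeData

variable {α : Type u} [Lattice α] {Γ : Type v} [AddCommGroup Γ] [LinearOrder Γ] [IsOrderedAddMonoid Γ]
  (D : SlopeData α Γ) {a b c p : α}

/-- The excess of an interval over the slope `(r₀, d₀)`. -/
def excess (r₀ : ℤ) (d₀ : Γ) (x y : α) : Γ := r₀ • D.d x y - D.r x y • d₀

theorem excess_add (r₀ : ℤ) (d₀ : Γ) (x y z : α) :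
    D.excess r₀ d₀ x z = D.excess r₀ d₀ x y + D.excess r₀ d₀ y z := by
  simp only [excess]
  rw [D.r_add x y z, D.d_add x y z, smul_add, add_smul]
  abel

theorem excess_nonneg {r₀ : ℤ} {d₀ : Γ} {x y : α} :
    0 ≤ D.excess r₀ d₀ x y ↔ sle r₀ d₀ (D.r x y) (D.d x y) := sub_nonneg

/-- The image of a semistable step of bigger slope in a quotient. -/
theorem SS.excess_image {x y : α} {r₀ : ℤ} {d₀ : Γ} (hr₀ : 0 < r₀) (h : D.SS x y)
    (hle : sle r₀ d₀ (D.r x y) (D.d x y)) {z : α} (hz : x ≤ z) :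
    0 ≤ D.excess r₀ d₀ z (y ⊔ z) ∧
      (slt r₀ d₀ (D.r x y) (D.d x y) → D.excess r₀ d₀ z (y ⊔ z) = 0 → D.R (y ⊔ z) = D.R z) := by
  have hw : x ≤ y ⊓ z := le_inf h.lt.le hz
  have hwy : y ⊓ z ≤ y := inf_le_left
  have hr : 0 ≤ D.r (y ⊓ z) y := D.r_nonneg hwy
  have hq : D.Le x y (y ⊓ z) y := h.le_quot D hw hwy
  have e : D.excess r₀ d₀ z (y ⊔ z) = D.excess r₀ d₀ (y ⊓ z) y := by
    simp only [excess]; rw [D.r_inf_sup, D.d_inf_sup]
  rw [e]
  refine ⟨D.excess_nonneg.2 (sle_trans hr₀.le (h.r_pos D) hr hle hq), fun hlt h0 => ?_⟩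
  rcases eq_or_lt_of_le hr with h' | h'
  · have := D.r_inf_sup y z
    simp only [r] at this h'
    omega
  · exfalso
    have hstrict : slt r₀ d₀ (D.r (y ⊓ z) y) (D.d (y ⊓ z) y) := by
      refine lt_of_le_of_ne (D.excess_nonneg.1 h0.ge) fun heq => ?_
      have hback : sle (D.r (y ⊓ z) y) (D.d (y ⊓ z) y) r₀ d₀ := le_of_eq heq.symm
      exact not_sle_of_slt hlt (sle_trans (h.r_pos D).le h' hr₀.le hq hback)
    exact hstrict.ne (sub_eq_zero.1 h0).symm

/-- A quotient interval with the rank and slope of the last step is the last step. -/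
theorem IsHN.eq_of_last {s : LTSeries α} (hs : D.IsHN a b s) {i : Fin s.length} (hi : i.val + 1 = s.length)
    (hac : a ≤ c) (hcb : c ≤ b) (hp : D.Pure c b) (hr : D.r c b = D.r (s i.castSucc) b)
    (he : D.Eq' c b (s i.castSucc) b) : c = s i.castSucc := by
  let r₀ := D.r (s i.castSucc) b
  let d₀ := D.d (s i.castSucc) b
  have hlast : s i.succ = b := by
    rw [← hs.last]; exact congrArg s.toFun (Fin.ext (by simp [Fin.val_last]; omega))
  have hib : D.SS (s i.castSucc) b := hlast ▸ hs.ss i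
  have hr₀ : 0 < r₀ := hib.r_pos D
  have hsle : ∀ l : Fin s.length, sle r₀ d₀ (D.r (s l.castSucc) (s l.succ)) (D.d (s l.castSucc) (s l.succ)) := fun l => by
    rcases lt_or_eq_of_le (show l.val ≤ i.val by have := l.2; omega) with hl | hl
    · have := hs.lt_of_lt D (show l < i from hl)
      rw [Lt, hlast] at this
      exact sle_of_slt this
    · rw [show l = i from Fin.ext hl, hlast]; exact le_refl _
  have hnonneg : ∀ l : Fin s.length, 0 ≤ D.excess r₀ d₀ (s l.castSucc ⊔ c) (s l.succ ⊔ c) := fun l => by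
    have := (SS.excess_image D hr₀ (hs.ss l) (hsle l) (z := s l.castSucc ⊔ c) le_sup_left).1
    rwa [← sup_assoc, sup_eq_left.2 (s.step l).le] at this
  have hsum : ∀ l : Fin (s.length + 1), 0 ≤ D.excess r₀ d₀ c (s l ⊔ c) := by
    intro l
    induction l using Fin.induction with
    | zero =>
      rw [show s 0 = a from hs.head, sup_eq_right.2 hac]
      simp [excess, r, d]
    | succ l ih =>
      rw [D.excess_add r₀ d₀ c (s l.castSucc ⊔ c)]
      exact add_nonneg ih (hnonneg l)
  have key : ∀ l : Fin (s.length + 1), l.val ≤ i.val → D.excess r₀ d₀ c (s l ⊔ c) = 0 → D.R (s l ⊔ c) = D.R c := by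
    intro l
    induction l using Fin.induction with
    | zero => intro _ _; rw [show s 0 = a from hs.head, sup_eq_right.2 hac]
    | succ l ih =>
      intro hl h0
      rw [D.excess_add r₀ d₀ c (s l.castSucc ⊔ c)] at h0
      obtain ⟨h1, h2⟩ := (add_eq_zero_iff_of_nonneg (hsum _) (hnonneg l)).1 h0
      have hl' : l < i := by show l.val < i.val; simp at hl; omega
      have hstrict : slt r₀ d₀ (D.r (s l.castSucc) (s l.succ)) (D.d (s l.castSucc) (s l.succ)) := by
        have := hs.lt_of_lt D hl'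
        rwa [Lt, hlast] at this
      have h3 := (SS.excess_image D hr₀ (hs.ss l) (hsle l) (z := s l.castSucc ⊔ c) le_sup_left).2 hstrict
      rw [← sup_assoc, sup_eq_left.2 (s.step l).le] at h3
      rw [h3 h2]
      exact ih (by simp at hl ⊢; omega) h1
  have htot : D.excess r₀ d₀ c b = 0 := sub_eq_zero.2 (by
    have : r₀ • D.d c b = D.r c b • d₀ := he
    exact this)
  have h0 : D.excess r₀ d₀ c (s i.castSucc ⊔ c) = 0 := by
    rw [D.excess_add r₀ d₀ c (s i.castSucc ⊔ c) b] at htot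
    have h' := hnonneg i
    rw [hlast, sup_eq_left.2 hcb] at h'
    exact ((add_eq_zero_iff_of_nonneg (hsum _) h').1 htot).1
  have hR := key i.castSucc le_rfl h0
  have hsc : s i.castSucc ≤ c := by
    by_contra hne
    have h1 := hp (s i.castSucc ⊔ c) (lt_of_le_of_ne le_sup_right fun h => hne (le_sup_left.trans_eq h.symm))
      (sup_le hib.lt.le hcb)
    omega
  by_contra hne
  have h1 := hib.pure c (lt_of_le_of_ne hsc (Ne.symm hne)) hcb
  simp only [r] at hr
  omega

end GrothLib.Slope20.SlopeData
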