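import Groth.Agent.Lib.Slope20.Filtration

/-!
# Extensions of semistable intervals of equal slope
-/

set_option autoImplicit false

universe u v

namespace GrothLib.Slope20.SlopeData

variable {α : Type u} [Lattice α] {Γ : Type v} [AddCommGroup Γ] [LinearOrder Γ] [IsOrderedAddMonoid Γ]
  {D : SlopeData α Γ} {a b f : α}

/-- An extension of semistable intervals of the same slope is semistable of that slope. -/
theorem SS.ext' (h1 : D.SS a f) (h2 : D.SS f b) (he : D.Eq' a f f b) : D.SS a b ∧ D.Eq' a f a b := by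
  have hab : a < b := h1.lt.trans h2.lt
  have heq : D.Eq' a f a b := by
    show D.r a b • D.d a f = D.r a f • D.d a b
    have he' : D.r f b • D.d a f = D.r a f • D.d f b := he
    rw [D.r_add a f b, D.d_add a f b, add_smul, smul_add, he']
  have hfb : D.Eq' f b a b := by
    show D.r a b • D.d f b = D.r f b • D.d a b
    have he' : D.r f b • D.d a f = D.r a f • D.d f b := he
    rw [D.r_add a f b, D.d_add a f b, add_smul, smul_add, ← he']
  refine ⟨⟨hab, fun c hac hcb => ?_, fun c hac hcb => ?_⟩, heq⟩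
  · rcases eq_or_lt_of_le (le_inf hac.le h1.lt.le : a ≤ c ⊓ f) with hi | hi
    · have h3 : f < f ⊔ c := lt_of_le_of_ne le_sup_left fun hh =>
        hac.ne (hi.trans (inf_eq_left.2 (hh ▸ le_sup_right)))
      have h4 := h2.pure (f ⊔ c) h3 (sup_le h2.lt.le hcb)
      have h5 := D.R_val f c
      rw [inf_comm, ← hi] at h5
      omega
    · exact (h1.pure (c ⊓ f) hi inf_le_right).trans_le (D.R_mono _ _ inf_le_left)
  · have l1 : D.Le a (c ⊓ f) a b :=
      D.le_trans' (le_inf hac h1.lt.le) (h1.r_pos D) hab.le (h1.le_of (c ⊓ f) (le_inf hac h1.lt.le) inf_le_right)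
        (le_of_eq heq)
    have l2 : D.Le (c ⊓ f) c a b := by
      show D.r a b • D.d (c ⊓ f) c ≤ D.r (c ⊓ f) c • D.d a b
      rw [D.r_inf_sup, D.d_inf_sup]
      exact D.le_trans' le_sup_right (h2.r_pos D) hab.le (h2.le_of (c ⊔ f) le_sup_right (sup_le hcb h2.lt.le))
        (le_of_eq hfb)
    exact D.le_add_left l1 l2

end GrothLib.Slope20.SlopeData
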