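import Groth.Agent.Lib.Slope20.Ord
import Mathlib.Order.RelSeries
import Mathlib.Order.WellFounded

/-!
# Slope stability in a lattice

A rank function `R` and a degree function `V`, both valuations on a lattice, give slopes to intervals;
this file proves the existence of maximal destabilising elements and the properties of semistable intervals.
-/

set_option autoImplicit false

universe u v

namespace GrothLib.Slope20

variable (α : Type u) [Lattice α] (Γ : Type v) [AddCommGroup Γ] [LinearOrder Γ] [IsOrderedAddMonoid Γ]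

/-- Rank and degree valuations. -/
structure SlopeData where
  R : α → ℤ
  V : α → Γ
  R_val : ∀ a b : α, R (a ⊔ b) + R (a ⊓ b) = R a + R b
  V_val : ∀ a b : α, V (a ⊔ b) + V (a ⊓ b) = V a + V b
  R_mono : ∀ a b : α, a ≤ b → R a ≤ R b
  V_mono : ∀ a b : α, a ≤ b → R a = R b → V a ≤ V b

namespace SlopeData

variable {α Γ} (D : SlopeData α Γ)

/-- Rank of an interval. -/
abbrev r (a b : α) : ℤ := D.R b - D.R a

/-- Degree of an interval. -/
abbrev d (a b : α) : Γ := D.V b - D.V a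

/-- `μ(a,b) ≤ μ(c,e)`. -/
def Le (a b c e : α) : Prop := sle (D.r a b) (D.d a b) (D.r c e) (D.d c e)

/-- `μ(a,b) < μ(c,e)`. -/
def Lt (a b c e : α) : Prop := slt (D.r a b) (D.d a b) (D.r c e) (D.d c e)

/-- No subinterval of rank zero at the bottom. -/
def Pure (a b : α) : Prop := ∀ c, a < c → c ≤ b → D.R a < D.R c

/-- A semistable interval. -/
structure SS (a b : α) : Prop where
  lt : a < b
  pure : D.Pure a b
  le_of : ∀ c, a ≤ c → c ≤ b → D.Le a c a b

/-- A stable interval. -/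
structure St (a b : α) : Prop extends SS D a b where
  lt_of : ∀ c, a < c → c < b → D.Lt a c a b

variable {a b c e : α}

theorem r_nonneg (h : a ≤ b) : 0 ≤ D.r a b := by
  have := D.R_mono a b h
  show 0 ≤ D.R b - D.R a
  omega

theorem r_add (a c b : α) : D.r a b = D.r a c + D.r c b := by simp only [r]; omega

theorem d_add (a c b : α) : D.d a b = D.d a c + D.d c b := by simp only [d]; abel

theorem Pure.r_pos (h : D.Pure a b) (hc : a < c) (hcb : c ≤ b) : 0 < D.r a c := by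
  have := h c hc hcb; simp only [r]; omega

theorem SS.r_pos (h : D.SS a b) : 0 < D.r a b := Pure.r_pos D h.pure h.lt le_rfl

theorem r_inf_sup (a b : α) : D.r (a ⊓ b) a = D.r b (a ⊔ b) := by
  have := D.R_val a b; simp only [r]; omega

theorem d_inf_sup (a b : α) : D.d (a ⊓ b) a = D.d b (a ⊔ b) := by
  have h := D.V_val a b
  show D.V a - D.V (a ⊓ b) = D.V (a ⊔ b) - D.V b
  rw [sub_eq_sub_iff_add_eq_add, ← h]

theorem le_seesaw : D.Le a c a b ↔ D.Le a b c b := by
  rw [Le, Le, D.r_add a c b, D.d_add a c b]; exact sle_seesaw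

theorem lt_seesaw : D.Lt a c a b ↔ D.Lt a b c b := by
  rw [Lt, Lt, D.r_add a c b, D.d_add a c b]; exact slt_seesaw

theorem le_refl' (a b : α) : D.Le a b a b := sle_refl _ _

theorem le_self (a : α) (c e : α) : D.Le a a c e := by
  show _ ≤ _
  simp [d, r]

/-- A quotient of a semistable interval has bigger slope. -/
theorem SS.le_quot (h : D.SS a b) (hac : a ≤ c) (hcb : c ≤ b) : D.Le a b c b :=
  D.le_seesaw.1 (h.le_of c hac hcb)

/-- No maps from a semistable interval to one of smaller slope. -/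
theorem SS.le_of_lt (h : D.SS a b) (h' : D.SS c e) (hlt : D.Lt c e a b) (hac : a ≤ c) (hbe : b ≤ e) : b ≤ c := by
  by_contra hbc
  have h1 : c < b ⊔ c := lt_of_le_of_ne le_sup_right fun he => hbc (by rw [he]; exact le_sup_left)
  have h2 : b ⊔ c ≤ e := sup_le hbe h'.lt.le
  have hpos : 0 < D.r (b ⊓ c) b := by
    rw [r_inf_sup]; exact Pure.r_pos D h'.pure h1 h2
  have h3 : D.Le a b (b ⊓ c) b := h.le_quot D (le_inf h.lt.le hac) inf_le_left
  have h4 : D.Le (b ⊓ c) b c e := by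
    rw [Le, r_inf_sup, d_inf_sup]; exact h'.le_of _ h1.le h2
  exact not_sle_of_slt hlt (sle_trans (h.r_pos D).le hpos (h'.r_pos D).le h3 h4)

theorem le_trans' {p q : α} (h0 : a ≤ b) (h1 : 0 < D.r c e) (h2 : p ≤ q) (h : D.Le a b c e) (h' : D.Le c e p q) :
    D.Le a b p q := sle_trans (D.r_nonneg h0) h1 (D.r_nonneg h2) h h'

theorem le_add_left {p q : α} (h : D.Le a c p q) (h' : D.Le c b p q) : D.Le a b p q := by
  rw [Le, D.r_add a c b, D.d_add a c b]; exact sle_add_left h h'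

theorem lt_add_right {p q : α} (h : D.Lt p q a c) (h' : D.Le p q c b) : D.Lt p q a b := by
  rw [Lt, D.r_add a c b, D.d_add a c b]; exact slt_add_right h h'

/-- Saturation does not lower slopes. -/
theorem le_of_r_eq_zero {p q : α} (hac : a ≤ c) (hcc : c ≤ e) (hz : D.R c = D.R e) (hpq : p ≤ q)
    (h : D.Le p q a c) : D.Le p q a e := by
  have h0 : D.r a e = D.r a c := by simp only [r]; omega
  have h1 : D.d a c ≤ D.d a e := sub_le_sub_right (D.V_mono c e hcc hz) _
  show _ ≤ _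
  rw [h0]
  exact le_trans h (zle (D.r_nonneg hpq) h1)

theorem lt_of_r_eq_zero {p q : α} (hcc : c ≤ e) (hz : D.R c = D.R e) (hpq : p ≤ q)
    (h : D.Lt p q a c) : D.Lt p q a e := by
  have h0 : D.r a e = D.r a c := by simp only [r]; omega
  have h1 : D.d a c ≤ D.d a e := sub_le_sub_right (D.V_mono c e hcc hz) _
  show _ < _
  rw [h0]
  exact lt_of_lt_of_le h (zle (D.r_nonneg hpq) h1)

variable [WellFoundedGT α]

theorem exists_maximal {P : α → Prop} (h : ∃ x, P x) : ∃ m, P m ∧ ∀ x, P x → m ≤ x → m = x := by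
  obtain ⟨m, hm, hmax⟩ := (wellFounded_gt (α := α)).has_min {x | P x} h
  exact ⟨m, hm, fun x hx hle => (eq_or_lt_of_le hle).resolve_right fun hlt => hmax x hx hlt⟩

/-- There is a maximal slope. -/
theorem exists_max_slope : ∀ (n : ℕ) (a b : α), D.r a b ≤ n → a < b → D.Pure a b →
    ∃ m, a < m ∧ m ≤ b ∧ ∀ c, a ≤ c → c ≤ b → D.Le a c a m := by
  intro n
  induction n with
  | zero =>
    intro a b hn hab hp
    have := Pure.r_pos D hp hab le_rfl
    omega
  | succ n ih =>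
    intro a b hn hab hp
    by_cases hss : ∀ c, a ≤ c → c ≤ b → D.Le a c a b
    · exact ⟨b, hab, le_rfl, hss⟩
    have hrab := Pure.r_pos D hp hab le_rfl
    push Not at hss
    obtain ⟨c₀, hac₀, hc₀b, hc₀⟩ := hss
    have hc₀' : D.Lt a b a c₀ := lt_of_not_ge hc₀
    have hex : ∃ x, a ≤ x ∧ x ≤ b ∧ D.Lt a b a x := ⟨c₀, hac₀, hc₀b, hc₀'⟩
    obtain ⟨f, ⟨haf, hfb, hf⟩, hmax⟩ := exists_maximal hex
    have haf' : a < f := lt_of_le_of_ne haf fun he => by
      subst he
      exact not_sle_of_slt hf (D.le_self a a b)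
    have hfb' : f < b := lt_of_le_of_ne hfb fun he => by subst he; exact slt_irrefl _ _ hf
    have hp2 : D.Pure f b := fun c hfc hcb => by
      refine lt_of_le_of_ne (D.R_mono f c hfc.le) fun he => hfc.ne ?_
      exact hmax c ⟨haf.trans hfc.le, hcb, D.lt_of_r_eq_zero hfc.le he hab.le hf⟩ hfc.le
    have hrf := Pure.r_pos D hp haf' hfb
    have hrq := Pure.r_pos D hp2 hfb' le_rfl
    have hsum := D.r_add a f b
    obtain ⟨m₁, ham₁, hm₁f, H₁⟩ := ih a f (by omega) haf' fun c h1 h2 => hp c h1 (h2.trans hfb)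
    obtain ⟨m₂, hfm₂, hm₂b, H₂⟩ := ih f b (by omega) hfb' hp2
    have hr₁ := Pure.r_pos D hp ham₁ (hm₁f.trans hfb)
    have hr₂ := Pure.r_pos D hp2 hfm₂ hm₂b
    have hfm : D.Le a f a m₁ := H₁ f haf le_rfl
    have hm₂ : D.Le f m₂ a b := by
      by_contra hcon
      have h' : D.Lt a b f m₂ := lt_of_not_ge hcon
      exact hfm₂.ne (hmax m₂ ⟨haf.trans hfm₂.le, hm₂b, D.lt_add_right hf (sle_of_slt h')⟩ hfm₂.le)
    have hm₂m₁ : D.Le f m₂ a m₁ :=
      D.le_trans' hfm₂.le hrab ham₁.le hm₂ (D.le_trans' hab.le hrf ham₁.le (sle_of_slt hf) hfm)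
    refine ⟨m₁, ham₁, hm₁f.trans hfb, fun c hac hcb => ?_⟩
    refine D.le_add_left (c := c ⊓ f) (H₁ _ (le_inf hac haf) inf_le_right) ?_
    rw [Le, r_inf_sup, d_inf_sup]
    exact D.le_trans' le_sup_right hr₂ ham₁.le (H₂ _ le_sup_right (sup_le hcb hfb)) hm₂m₁

/-- The maximal destabilising element. -/
theorem exists_maxDestab (hab : a < b) (hp : D.Pure a b) :
    ∃ m, a < m ∧ m ≤ b ∧ D.SS a m ∧ D.Pure m b ∧ (∀ c, a ≤ c → c ≤ b → D.Le a c a m) ∧
      (∀ c, a < c → c ≤ b → D.Le a m a c → c ≤ m) ∧ ∀ c, m < c → c ≤ b → D.Lt m c a m := by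
  obtain ⟨m₀, ham₀, hm₀b, H₀⟩ := D.exists_max_slope (D.r a b).toNat a b (Int.self_le_toNat _) hab hp
  have hex : ∃ x, a < x ∧ x ≤ b ∧ D.Le a m₀ a x := ⟨m₀, ham₀, hm₀b, D.le_refl' _ _⟩
  obtain ⟨m, ⟨ham, hmb, hm⟩, hmax⟩ := exists_maximal hex
  have hr₀ := Pure.r_pos D hp ham₀ hm₀b
  have hrm := Pure.r_pos D hp ham hmb
  have H : ∀ c, a ≤ c → c ≤ b → D.Le a c a m := fun c hac hcb =>
    D.le_trans' hac hr₀ ham.le (H₀ c hac hcb) hm
  have key : ∀ x, m ≤ x → x ≤ b → D.Le a m a x → m = x := fun x hmx hxb hle =>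
    hmax x ⟨ham.trans_le hmx, hxb, D.le_trans' ham₀.le hrm (ham.le.trans hmx) hm hle⟩ hmx
  have key' : ∀ c, m < c → c ≤ b → D.Lt m c a m := fun c hmc hcb => by
    refine lt_of_not_ge fun hge => hmc.ne (key c hmc.le hcb ?_)
    show sle _ _ _ _
    rw [D.r_add a m c, D.d_add a m c]
    exact sle_add_right (D.le_refl' a m) hge
  refine ⟨m, ham, hmb, ⟨ham, fun c h1 h2 => hp c h1 (h2.trans hmb), fun c h1 h2 => H c h1 (h2.trans hmb)⟩,
    fun c hmc hcb => ?_, H, fun c hac hcb hle => ?_, key'⟩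
  · refine lt_of_le_of_ne (D.R_mono m c hmc.le) fun he => hmc.ne (key c hmc.le hcb ?_)
    exact D.le_of_r_eq_zero ham.le hmc.le he ham.le (D.le_refl' a m)
  · have hi : D.Le a (c ⊓ m) a m := H _ (le_inf hac.le ham.le) (inf_le_right.trans hmb)
    have hsup : m ⊔ c ≤ b := sup_le hmb hcb
    have hge : sle (D.r a m) (D.d a m) (D.r (c ⊓ m) c) (D.d (c ⊓ m) c) := by
      by_contra hlt
      have h' := slt_add_left (lt_of_not_ge hlt) hi
      rw [add_comm (D.r (c ⊓ m) c), ← D.r_add, add_comm (D.d (c ⊓ m) c), ← D.d_add] at h'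
      exact not_sle_of_slt h' hle
    rw [r_inf_sup, d_inf_sup] at hge
    have heq : m = c ⊔ m := key (c ⊔ m) le_sup_right (sup_le hcb hmb) (by
      show sle _ _ _ _
      rw [D.r_add a m (c ⊔ m), D.d_add a m (c ⊔ m)]
      exact sle_add_right (D.le_refl' a m) hge)
    exact le_sup_left.trans_eq heq.symm

end SlopeData

end GrothLib.Slope20
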