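import Groth.Agent.Lib.Slope20.Basic

/-!
# Harder-Narasimhan and Jordan-Hölder filtrations in a lattice
-/

set_option autoImplicit false

universe u v

namespace GrothLib.Slope20.SlopeData

variable {α : Type u} [Lattice α] {Γ : Type v} [AddCommGroup Γ] [LinearOrder Γ] [IsOrderedAddMonoid Γ]
  (D : SlopeData α Γ) {a b c e : α}

/-- A Harder-Narasimhan series from `a` to `b`. -/
structure IsHN (a b : α) (s : LTSeries α) : Prop where
  head : s.head = a
  last : s.last = b
  ss : ∀ i : Fin s.length, D.SS (s i.castSucc) (s i.succ)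
  decr : ∀ i j : Fin s.length, i.val + 1 = j.val → D.Lt (s j.castSucc) (s j.succ) (s i.castSucc) (s i.succ)

/-- Equality of slopes. -/
def Eq' (a b c e : α) : Prop := D.r c e • D.d a b = D.r a b • D.d c e

theorem eq'_iff : D.Eq' a b c e ↔ D.Le a b c e ∧ D.Le c e a b :=
  ⟨fun h => ⟨le_of_eq h, le_of_eq h.symm⟩, fun h => le_antisymm h.1 h.2⟩

/-- A Jordan-Hölder series from `a` to `b`. -/
structure IsJH (a b : α) (s : LTSeries α) : Prop where
  head : s.head = a
  last : s.last = b
  st : ∀ i : Fin s.length, D.St (s i.castSucc) (s i.succ)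
  eq : ∀ i : Fin s.length, D.Eq' (s i.castSucc) (s i.succ) a b

theorem IsHN.lt_of_lt {s : LTSeries α} (h : D.IsHN a b s) : ∀ {i j : Fin s.length}, i < j →
    D.Lt (s j.castSucc) (s j.succ) (s i.castSucc) (s i.succ) := by
  suffices H : ∀ n : ℕ, ∀ i j : Fin s.length, i.val + 1 + n = j.val →
      D.Lt (s j.castSucc) (s j.succ) (s i.castSucc) (s i.succ) from
    fun {i j} hij => H (j.val - i.val - 1) i j (by have : i.val < j.val := hij; omega)
  intro n
  induction n with
  | zero => exact fun i j h' => h.decr i j (by omega)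
  | succ n ih =>
    intro i j h'
    let m : Fin s.length := ⟨j.val - 1, by omega⟩
    exact slt_of_slt_of_sle (D.r_nonneg (h.ss j).lt.le) ((h.ss m).r_pos D) ((h.ss i).r_pos D)
      (h.decr m j (by simp [m]; omega)) (sle_of_slt (ih i m (by simp [m]; omega)))

/-- One step of the uniqueness. -/
theorem IsHN.succ_le {s t : LTSeries α} (hs : D.IsHN a b s) (ht : D.IsHN a b t) {i : Fin s.length} {j : Fin t.length}
    (h0 : t j.castSucc = s i.castSucc)
    (hμ : D.Le (s i.castSucc) (s i.succ) (t j.castSucc) (t j.succ)) : t j.succ ≤ s i.succ := by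
  suffices H : ∀ n : ℕ, ∀ m : Fin (s.length + 1), i.val + 1 + n = m.val → t j.succ ≤ s m → t j.succ ≤ s i.succ by
    have hi := i.2
    refine H (s.length - (i.val + 1)) (Fin.last _) (by simp [Fin.val_last]; omega) ?_
    exact (t.monotone (Fin.le_last j.succ)).trans_eq (ht.last.trans hs.last.symm)
  intro n
  induction n with
  | zero =>
    intro m hm hle
    have : m = i.succ := Fin.ext (by simp; omega)
    rwa [this] at hle
  | succ n ih =>
    intro m hm hle
    have hm' := m.2
    let p : Fin s.length := ⟨m.val - 1, by omega⟩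
    have hp : p.succ = m := Fin.ext (by simp [p]; omega)
    have hip : i < p := by show i.val < p.val; simp [p]; omega
    refine ih p.castSucc (by simp [p]; omega) (SS.le_of_lt D (ht.ss j) (hs.ss p) ?_ ?_ (hp ▸ hle))
    · exact slt_of_slt_of_sle (D.r_nonneg (hs.ss p).lt.le) ((hs.ss i).r_pos D) ((ht.ss j).r_pos D)
        (hs.lt_of_lt D hip) hμ
    · rw [h0]; exact s.monotone (by show i.val ≤ p.val; simp [p]; omega)

theorem IsHN.succ_eq {s t : LTSeries α} (hs : D.IsHN a b s) (ht : D.IsHN a b t) {i : Fin s.length}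
    {j : Fin t.length} (h0 : t j.castSucc = s i.castSucc) : t j.succ = s i.succ := by
  have main : ∀ {s t : LTSeries α} (hs : D.IsHN a b s) (ht : D.IsHN a b t) {i : Fin s.length} {j : Fin t.length},
      t j.castSucc = s i.castSucc → D.Le (s i.castSucc) (s i.succ) (t j.castSucc) (t j.succ) →
      t j.succ = s i.succ := by
    intro s t hs ht i j h0 hμ
    have h1 := hs.succ_le D ht h0 hμ
    refine h1.antisymm (ht.succ_le D hs h0.symm ?_)
    have h2 := (hs.ss i).le_of (t j.succ) (h0 ▸ (ht.ss j).lt.le) h1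
    rwa [← h0] at h2 ⊢
  rcases sle_or_slt (D.r (s i.castSucc) (s i.succ)) (D.d (s i.castSucc) (s i.succ))
    (D.r (t j.castSucc) (t j.succ)) (D.d (t j.castSucc) (t j.succ)) with h | h
  · exact main hs ht h0 h
  · exact (main ht hs h0.symm (sle_of_slt h)).symm

theorem IsHN.le_length {s t : LTSeries α} (hs : D.IsHN a b s) (ht : D.IsHN a b t) :
    ∀ i : ℕ, ∀ hi : i ≤ s.length, ∃ hi' : i ≤ t.length,
      t ⟨i, Nat.lt_succ_iff.2 hi'⟩ = s ⟨i, Nat.lt_succ_iff.2 hi⟩ := by
  intro i
  induction i with
  | zero => exact fun hi => ⟨Nat.zero_le _, ht.head.trans hs.head.symm⟩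
  | succ i ih =>
    intro hi
    obtain ⟨hi', he⟩ := ih (by omega)
    have hlt : i < t.length := by
      by_contra hge
      have hlast : (⟨i, Nat.lt_succ_iff.2 hi'⟩ : Fin (t.length + 1)) = Fin.last _ := Fin.ext (by simp; omega)
      have h1 : s ⟨i, by omega⟩ < s.last :=
        s.strictMono (show (⟨i, _⟩ : Fin (s.length + 1)) < Fin.last _ by simp [Fin.lt_def]; omega)
      rw [hlast] at he
      exact h1.ne (he.symm.trans (ht.last.trans hs.last.symm))
    exact ⟨hlt, hs.succ_eq D ht (i := ⟨i, by omega⟩) (j := ⟨i, hlt⟩) he⟩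

theorem IsHN.unique {s t : LTSeries α} (hs : D.IsHN a b s) (ht : D.IsHN a b t) : s = t := by
  obtain ⟨h1, -⟩ := hs.le_length D ht s.length le_rfl
  obtain ⟨h2, -⟩ := ht.le_length D hs t.length le_rfl
  refine RelSeries.ext (le_antisymm h1 h2) (funext fun i => ?_)
  obtain ⟨_, he⟩ := hs.le_length D ht i.val (Nat.lt_succ_iff.1 i.2)
  exact he.symm

/-- Prepend an element. -/
def consSeries (a : α) (s : LTSeries α) (h : a < s.head) : LTSeries α where
  length := s.length + 1
  toFun := Fin.cons a s.toFun
  step i := by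
    refine Fin.cases ?_ (fun j => ?_) i
    · exact h
    · show (Fin.cons a s.toFun : Fin (s.length + 2) → α) j.succ.castSucc < (Fin.cons a s.toFun : Fin (s.length + 2) → α) j.succ.succ
      rw [Fin.castSucc_succ]
      exact s.step j

/-- Append an element. -/
def snocSeries (s : LTSeries α) (b : α) (h : s.last < b) : LTSeries α where
  length := s.length + 1
  toFun := Fin.snoc s.toFun b
  step i := by
    refine Fin.lastCases ?_ (fun j => ?_) i
    · show (Fin.snoc s.toFun b : Fin (s.length + 2) → α) (Fin.last _).castSucc < (Fin.snoc s.toFun b : Fin (s.length + 2) → α) (Fin.last _).succ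
      rw [Fin.snoc_castSucc, Fin.succ_last, Fin.snoc_last]
      exact h
    · show (Fin.snoc s.toFun b : Fin (s.length + 2) → α) j.castSucc.castSucc < (Fin.snoc s.toFun b : Fin (s.length + 2) → α) j.castSucc.succ
      rw [Fin.succ_castSucc, Fin.snoc_castSucc, Fin.snoc_castSucc]
      exact s.step j

variable [WellFoundedGT α]

theorem exists_isHN : ∀ (n : ℕ) (a b : α), D.r a b ≤ n → a ≤ b → D.Pure a b → ∃ s, D.IsHN a b s := by
  intro n
  induction n with
  | zero =>
    intro a b hn hab hp
    have : a = b := (eq_or_lt_of_le hab).resolve_right fun h => by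
      have := Pure.r_pos D hp h le_rfl; omega
    subst this
    exact ⟨RelSeries.singleton _ a, rfl, rfl, fun i => i.elim0, fun i => i.elim0⟩
  | succ n ih =>
    intro a b hn hab hp
    rcases eq_or_lt_of_le hab with rfl | hlt
    · exact ⟨RelSeries.singleton _ a, rfl, rfl, fun i => i.elim0, fun i => i.elim0⟩
    obtain ⟨m, ham, hmb, hss, hpm, -, -, hdec⟩ := D.exists_maxDestab hlt hp
    have h1 := hss.r_pos D
    have h2 := D.r_add a m b
    obtain ⟨s, hs⟩ := ih m b (by omega) hmb hpm
    refine ⟨consSeries a s (hs.head ▸ ham), rfl, ?_, fun i => ?_, fun i j hij => ?_⟩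
    · show (Fin.cons a s.toFun : Fin (s.length + 2) → α) (Fin.last (s.length + 1)) = b
      rw [← Fin.succ_last]; exact hs.last
    · refine Fin.cases ?_ (fun j => ?_) i
      · show D.SS a (s.toFun 0)
        rw [show s.toFun 0 = m from hs.head]; exact hss
      · show D.SS ((Fin.cons a s.toFun : Fin (s.length + 2) → α) j.succ.castSucc) ((Fin.cons a s.toFun : Fin (s.length + 2) → α) j.succ.succ)
        rw [Fin.castSucc_succ]
        exact hs.ss j
    · revert hij
      refine Fin.cases ?_ (fun j' => ?_) j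
      · intro hij; simp at hij
      refine Fin.cases ?_ (fun i' => ?_) i
      · intro hij
        have hj : j' = ⟨0, by have := j'.2; omega⟩ := Fin.ext (by simp at hij ⊢; omega)
        show D.Lt ((Fin.cons a s.toFun : Fin (s.length + 2) → α) j'.succ.castSucc) ((Fin.cons a s.toFun : Fin (s.length + 2) → α) j'.succ.succ) a (s.toFun 0)
        rw [Fin.castSucc_succ, Fin.cons_succ, Fin.cons_succ, show s.toFun 0 = m from hs.head]
        have he : s.toFun j'.castSucc = m := by rw [hj]; exact hs.head
        rw [he]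
        refine hdec _ ?_ ?_
        · rw [← he]; exact (hs.ss j').lt
        · exact (s.monotone (Fin.le_last j'.succ)).trans_eq hs.last
      · intro hij
        show D.Lt ((Fin.cons a s.toFun : Fin (s.length + 2) → α) j'.succ.castSucc) ((Fin.cons a s.toFun : Fin (s.length + 2) → α) j'.succ.succ) ((Fin.cons a s.toFun : Fin (s.length + 2) → α) i'.succ.castSucc) ((Fin.cons a s.toFun : Fin (s.length + 2) → α) i'.succ.succ)
        rw [Fin.castSucc_succ, Fin.castSucc_succ]
        exact hs.decr i' j' (by simp at hij; omega)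

theorem existsUnique_isHN (hab : a ≤ b) (hp : D.Pure a b) : ∃! s, D.IsHN a b s := by
  obtain ⟨s, hs⟩ := D.exists_isHN (D.r a b).toNat a b (Int.self_le_toNat _) hab hp
  exact ⟨s, hs, fun t ht => ht.unique D hs⟩

end GrothLib.Slope20.SlopeData
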