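import Groth.Agent.Lib.Slope20.Filtration
import Mathlib.Order.JordanHolder
import Mathlib.GroupTheory.Perm.Basic

/-!
# Jordan-Hölder series in a lattice with slopes
-/

set_option autoImplicit false

universe u v

namespace GrothLib.Slope20.SlopeData

variable {α : Type u} [Lattice α] {Γ : Type v} [AddCommGroup Γ] [LinearOrder Γ] [IsOrderedAddMonoid Γ]
  (D : SlopeData α Γ) {a b c e f : α}

theorem eq'_self (a b : α) : D.Eq' a a a b := by simp [Eq', r, d]

theorem Eq'.quot (h : D.Eq' a f a b) : D.Eq' f b a b := by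
  show D.r a b • D.d f b = D.r f b • D.d a b
  have h' : D.r a b • D.d a f = D.r a f • D.d a b := h
  rw [show D.d f b = D.d a b - D.d a f by rw [D.d_add a f b]; abel, smul_sub, h', ← sub_smul,
    show D.r a b - D.r a f = D.r f b by rw [D.r_add a f b]; ring]

theorem Eq'.symm {p q : α} (h : D.Eq' a b p q) : D.Eq' p q a b := Eq.symm h

theorem Eq'.trans {p q : α} (hr : 0 < D.r c e) (h : D.Eq' a b c e) (h' : D.Eq' c e p q) : D.Eq' a b p q := by
  refine le_antisymm ((zle_iff hr).1 (le_of_eq ?_)) ((zle_iff hr).1 (le_of_eq ?_)) <;>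
  · show _ = _
    have h1 : D.r c e • D.d a b = D.r a b • D.d c e := h
    have h2 : D.r p q • D.d c e = D.r c e • D.d p q := h'
    first
    | rw [smul_comm, h1, smul_comm, h2, smul_comm]
    | rw [smul_comm (D.r c e), ← h2, smul_comm, ← h1, smul_comm]

variable (hV : ∀ x y : α, x < y → D.R x = D.R y → D.V x < D.V y)
include hV

theorem r_pos_of_eq' (hrab : 0 < D.r a b) (hf : f < b) (h : D.Eq' a f a b) : 0 < D.r f b := by
  refine lt_of_le_of_ne (D.r_nonneg hf.le) fun he => ?_
  have hR : D.R f = D.R b := by simp only [r] at he; omega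
  have h' : D.r a b • D.d a f = D.r a f • D.d a b := h
  rw [show D.r a f = D.r a b by simp only [r]; omega] at h'
  have : D.d a f = D.d a b := le_antisymm ((zle_iff hrab).1 h'.le) ((zle_iff hrab).1 h'.ge)
  exact (sub_lt_sub_right (hV f b hf hR) (D.V a)).ne this

/-- The quotient by a maximal equal-slope element is stable. -/
theorem st_of_maximal (h : D.SS a b) (haf : a ≤ f) (hfb : f < b) (he : D.Eq' a f a b)
    (hmax : ∀ x, a ≤ x → x < b → D.Eq' a x a b → f ≤ x → f = x) : D.St f b := by
  have hrab := h.r_pos D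
  have hq := Eq'.quot D he
  have hrfb := D.r_pos_of_eq' hV hrab hfb he
  have hle : ∀ x, f ≤ x → x ≤ b → D.Le f x f b := fun x hfx hxb => by
    refine D.le_trans' hfx hrab hfb.le ?_ (le_of_eq hq.symm)
    show D.r a b • D.d f x ≤ D.r f x • D.d a b
    have h1 : D.r a b • D.d a x ≤ D.r a x • D.d a b := h.le_of x (haf.trans hfx) hxb
    rw [D.d_add a f x, D.r_add a f x, smul_add, add_smul, show D.r a b • D.d a f = D.r a f • D.d a b from he] at h1
    exact le_of_add_le_add_left h1
  refine ⟨⟨hfb, fun x hfx hxb => ?_, hle⟩, fun x hfx hxb => ?_⟩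
  · refine lt_of_le_of_ne (D.R_mono f x hfx.le) fun hR => ?_
    have h1 : D.r f b • D.d f x ≤ D.r f x • D.d f b := hle x hfx.le hxb
    rw [show D.r f x = 0 by simp only [r]; omega, zero_smul, ← smul_zero (D.r f b), zle_iff hrfb] at h1
    exact (sub_pos.2 (hV f x hfx hR)).not_ge h1
  · refine lt_of_le_of_ne (hle x hfx.le hxb.le) fun heq => hfx.ne (hmax x (haf.trans hfx.le) hxb ?_ hfx.le)
    have h1 : D.Eq' f x a b := Eq'.trans D hrfb heq hq
    show D.r a b • D.d a x = D.r a x • D.d a b
    rw [D.d_add a f x, D.r_add a f x, smul_add, add_smul, show D.r a b • D.d a f = D.r a f • D.d a b from he,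
      show D.r a b • D.d f x = D.r f x • D.d a b from h1]

variable [WellFoundedGT α]

theorem exists_isJH : ∀ (n : ℕ) (a b : α), D.r a b ≤ n → D.SS a b → ∃ s, D.IsJH a b s := by
  intro n
  induction n with
  | zero => intro a b hn h; have := h.r_pos D; omega
  | succ n ih =>
    intro a b hn h
    obtain ⟨f, ⟨haf, hfb, he⟩, hmax⟩ :=
      exists_maximal (P := fun x => a ≤ x ∧ x < b ∧ D.Eq' a x a b) ⟨a, le_rfl, h.lt, D.eq'_self a b⟩
    have hst := D.st_of_maximal hV h haf hfb he fun x h1 h2 h3 h4 => hmax x ⟨h1, h2, h3⟩ h4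
    have hq := Eq'.quot D he
    obtain ⟨s, hhead, hlast, hSt, hEq⟩ : ∃ s : LTSeries α, s.head = a ∧ s.last = f ∧
        (∀ i : Fin s.length, D.St (s i.castSucc) (s i.succ)) ∧
          ∀ i : Fin s.length, D.Eq' (s i.castSucc) (s i.succ) a b := by
      rcases eq_or_lt_of_le haf with rfl | hlt
      · exact ⟨RelSeries.singleton _ a, rfl, rfl, fun i => i.elim0, fun i => i.elim0⟩
      have hrab := h.r_pos D
      have h1 := D.r_pos_of_eq' hV hrab hfb he
      have h2 := D.r_add a f b
      have hp : D.Pure a f := fun c h1 h2 => h.pure c h1 (h2.trans hfb.le)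
      obtain ⟨s, hs⟩ := ih a f (by omega) ⟨hlt, hp, fun c h3 h4 =>
        D.le_trans' h3 hrab haf (h.le_of c h3 (h4.trans hfb.le)) (le_of_eq he.symm)⟩
      exact ⟨s, hs.head, hs.last, hs.st, fun i => Eq'.trans D (Pure.r_pos D hp hlt le_rfl) (hs.eq i) he⟩
    refine ⟨snocSeries s b (hlast.symm ▸ hfb), ?_, ?_, fun i => ?_, fun i => ?_⟩
    · show (Fin.snoc s.toFun b : Fin (s.length + 2) → α) 0 = a
      rw [← Fin.castSucc_zero, Fin.snoc_castSucc]
      exact hhead
    · show (Fin.snoc s.toFun b : Fin (s.length + 2) → α) (Fin.last _) = b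
      rw [Fin.snoc_last]
    · refine Fin.lastCases ?_ (fun j => ?_) i
      · show D.St ((Fin.snoc s.toFun b : Fin (s.length + 2) → α) (Fin.last s.length).castSucc) ((Fin.snoc s.toFun b : Fin (s.length + 2) → α) (Fin.last s.length).succ)
        rw [Fin.snoc_castSucc, Fin.succ_last, Fin.snoc_last, show s.toFun (Fin.last _) = f from hlast]
        exact hst
      · show D.St ((Fin.snoc s.toFun b : Fin (s.length + 2) → α) j.castSucc.castSucc) ((Fin.snoc s.toFun b : Fin (s.length + 2) → α) j.castSucc.succ)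
        rw [Fin.succ_castSucc, Fin.snoc_castSucc, Fin.snoc_castSucc]
        exact hSt j
    · refine Fin.lastCases ?_ (fun j => ?_) i
      · show D.Eq' ((Fin.snoc s.toFun b : Fin (s.length + 2) → α) (Fin.last s.length).castSucc) ((Fin.snoc s.toFun b : Fin (s.length + 2) → α) (Fin.last s.length).succ) a b
        rw [Fin.snoc_castSucc, Fin.succ_last, Fin.snoc_last, show s.toFun (Fin.last _) = f from hlast]
        exact hq
      · show D.Eq' ((Fin.snoc s.toFun b : Fin (s.length + 2) → α) j.castSucc.castSucc) ((Fin.snoc s.toFun b : Fin (s.length + 2) → α) j.castSucc.succ) a b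
        rw [Fin.succ_castSucc, Fin.snoc_castSucc, Fin.snoc_castSucc]
        exact hEq j

end GrothLib.Slope20.SlopeData
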