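import Mathlib.Algebra.Order.Module.Defs
import Mathlib.Tactic.Module
import Mathlib.Tactic.Abel
import Mathlib.Tactic.Positivity
import Mathlib.Algebra.Order.Group.Basic
import Mathlib.Algebra.Order.Ring.Int
import Mathlib.Order.ModularLattice

/-!
# Cross-multiplied comparison of slopes `v / r`
-/

set_option autoImplicit false

universe v

namespace GrothLib.Slope20

variable {Γ : Type v} [AddCommGroup Γ] [LinearOrder Γ] [IsOrderedAddMonoid Γ]

/-- `v / r ≤ w / s`, cross-multiplied. -/
def sle (r : ℤ) (v : Γ) (s : ℤ) (w : Γ) : Prop := s • v ≤ r • w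

/-- `v / r < w / s`, cross-multiplied. -/
def slt (r : ℤ) (v : Γ) (s : ℤ) (w : Γ) : Prop := s • v < r • w

theorem zle {r : ℤ} (hr : 0 ≤ r) {a b : Γ} (h : a ≤ b) : r • a ≤ r • b := zsmul_le_zsmul_right hr h

theorem zlt {r : ℤ} (hr : 0 < r) {a b : Γ} (h : a < b) : r • a < r • b := zsmul_lt_zsmul_right hr h

theorem zle_iff {r : ℤ} (hr : 0 < r) {a b : Γ} : r • a ≤ r • b ↔ a ≤ b :=
  ⟨fun h => le_of_not_gt fun h' => (zlt hr h').not_ge h, zle hr.le⟩

theorem zlt_iff {r : ℤ} (hr : 0 < r) {a b : Γ} : r • a < r • b ↔ a < b :=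
  ⟨fun h => lt_of_not_ge fun h' => (zle hr.le h').not_gt h, zlt hr⟩

variable {r s t : ℤ} {u v w : Γ}

theorem sle_refl (r : ℤ) (v : Γ) : sle r v r v := le_refl _

theorem sle_or_slt (r : ℤ) (v : Γ) (s : ℤ) (w : Γ) : sle r v s w ∨ slt s w r v := le_or_gt _ _

theorem slt_irrefl (r : ℤ) (v : Γ) : ¬ slt r v r v := lt_irrefl _

theorem not_sle_of_slt (h : slt s w r v) : ¬ sle r v s w := h.not_ge

theorem sle_of_slt (h : slt r v s w) : sle r v s w := le_of_lt h

theorem sle_trans (hr : 0 ≤ r) (hs : 0 < s) (ht : 0 ≤ t) (h : sle r u s v) (h' : sle s v t w) : sle r u t w := by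
  refine (zle_iff hs).1 ?_
  calc s • t • u = t • s • u := smul_comm _ _ _
    _ ≤ t • r • v := zle ht h
    _ = r • t • v := smul_comm _ _ _
    _ ≤ r • s • w := zle hr h'
    _ = s • r • w := smul_comm _ _ _

theorem slt_of_slt_of_sle (hr : 0 ≤ r) (hs : 0 < s) (ht : 0 < t) (h : slt r u s v) (h' : sle s v t w) :
    slt r u t w := by
  refine (zlt_iff hs).1 ?_
  calc s • t • u = t • s • u := smul_comm _ _ _
    _ < t • r • v := zlt ht h
    _ = r • t • v := smul_comm _ _ _
    _ ≤ r • s • w := zle hr h'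
    _ = s • r • w := smul_comm _ _ _

theorem slt_of_sle_of_slt (hr : 0 < r) (hs : 0 < s) (ht : 0 ≤ t) (h : sle r u s v) (h' : slt s v t w) :
    slt r u t w := by
  refine (zlt_iff hs).1 ?_
  calc s • t • u = t • s • u := smul_comm _ _ _
    _ ≤ t • r • v := zle ht h
    _ = r • t • v := smul_comm _ _ _
    _ < r • s • w := zlt hr h'
    _ = s • r • w := smul_comm _ _ _

theorem sle_add_left (h : sle r u t w) (h' : sle s v t w) : sle (r + s) (u + v) t w := by
  show t • (u + v) ≤ (r + s) • w
  rw [smul_add, add_smul]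
  exact add_le_add h h'

theorem slt_add_left (h : slt r u t w) (h' : sle s v t w) : slt (r + s) (u + v) t w := by
  show t • (u + v) < (r + s) • w
  rw [smul_add, add_smul]
  exact add_lt_add_of_lt_of_le h h'

theorem sle_add_right (h : sle t w r u) (h' : sle t w s v) : sle t w (r + s) (u + v) := by
  show (r + s) • w ≤ t • (u + v)
  rw [smul_add, add_smul]
  exact add_le_add h h'

theorem slt_add_right (h : slt t w r u) (h' : sle t w s v) : slt t w (r + s) (u + v) := by
  show (r + s) • w < t • (u + v)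
  rw [smul_add, add_smul]
  exact add_lt_add_of_lt_of_le h h'

theorem slt_add_right' (h : sle t w r u) (h' : slt t w s v) : slt t w (r + s) (u + v) := by
  show (r + s) • w < t • (u + v)
  rw [smul_add, add_smul]
  exact add_lt_add_of_le_of_lt h h'

/-- See-saw: a part is at most the total iff the total is at most the rest. -/
theorem sle_seesaw : sle r u (r + s) (u + v) ↔ sle (r + s) (u + v) s v := by
  show (r + s) • u ≤ r • (u + v) ↔ s • (u + v) ≤ (r + s) • v
  rw [smul_add, smul_add, add_smul, add_smul, add_le_add_iff_left, add_le_add_iff_right]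

theorem slt_seesaw : slt r u (r + s) (u + v) ↔ slt (r + s) (u + v) s v := by
  show (r + s) • u < r • (u + v) ↔ s • (u + v) < (r + s) • v
  rw [smul_add, smul_add, add_smul, add_smul, add_lt_add_iff_left, add_lt_add_iff_right]

theorem sle_zero_left (hs : 0 ≤ s) (hv : v ≤ 0) (w : Γ) : sle (0 : ℤ) v s w := by
  show s • v ≤ (0 : ℤ) • w
  rw [zero_smul]
  exact (zle hs hv).trans_eq (smul_zero s)

end GrothLib.Slope20
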